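import Cfsg.Agent.H20.BrauerFeit.Quotient
import Cfsg.Agent.H32.SubsectionNorm
import Cfsg.Agent.H41.BrauerBlock
import Cfsg.Agent.H57.VChar
import Cfsg.Agent.S0164

/-!
# The regular parts of a block as integral combinations from the quotient by a central `p`-group
-/

set_option autoImplicit false
set_option linter.unusedSectionVars false

open scoped ComplexConjugate

namespace Cfsg.Agent.H31.RankTwo

open Cfsg
open Cfsg.Agent.H44 (inflate)
open Cfsg.Agent.H42 (regRes)
open Cfsg.Agent.H40 (quotSet)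
open Cfsg.Agent.H41.BrauerChar (regPart)

variable {G : Type*} [Group G] [Fintype G] {p : ℕ} [hp : Fact p.Prime]

/-- A character read at the regular parts is a generalized character. -/
theorem gen_regPart (χ : Cfsg.IrrCharacter G) :
    Cfsg.IsGeneralizedCharacter G (fun g => (χ : G → ℂ) (regPart p g)) := by
  refine Cfsg.Agent.S0164.result _ (fun g h => ?_) fun E q hq hE => ?_
  · show (χ : G → ℂ) _ = (χ : G → ℂ) _
    rw [H41.BrauerChar.regPart_conj, H26.irr_conj]
  have := H27.isNilpotent_of_isElementary hq hE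
  obtain ⟨U, S, hUE, hSE, hU, hS, hSU, hbij⟩ := H22.exists_nilpotent_split E p
  set f : U × S → E := fun z => ⟨(z.1 : G) * z.2, mul_mem (hUE z.1.2) (hSE z.2.2)⟩ with hf
  have hmul : ∀ z w, f (z * w) = f z * f w := fun z w => Subtype.ext (by
    have hc : (w.1 : G) * (z.2 : G) = (z.2 : G) * (w.1 : G) :=
      Subgroup.mem_centralizer_iff.1 (hSU z.2.2) _ w.1.2
    show ((z.1 * w.1 : U) : G) * ((z.2 * w.2 : S) : G) = ((z.1 : G) * z.2) * ((w.1 : G) * w.2)
    rw [Subgroup.coe_mul, Subgroup.coe_mul]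
    simp only [← mul_assoc]
    rw [mul_assoc (z.1 : G) (w.1 : G) (z.2 : G), hc, ← mul_assoc])
  let e : U × S ≃* E := MulEquiv.ofBijective (MonoidHom.mk' f hmul) hbij
  let π : E →* G := S.subtype.comp ((MonoidHom.snd U S).comp e.symm.toMonoidHom)
  have hπ : ∀ x : E, π x = regPart p (x : G) := by
    intro x
    obtain ⟨z, rfl⟩ := e.surjective x
    show (((e.symm (e z)).2 : S) : G) = regPart p (((z.1 : G) * z.2))
    rw [e.symm_apply_apply, H41.BrauerChar.regPart_eq (H22.isPPart_mul_of_mem hU hS hSU z.1 z.2),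
      inv_mul_cancel_left]
  have h := H26.isCharacter_comp (H26.irr_isCharacter χ) π
  refine H57.gen_of_char ?_
  convert h using 1
  funext x
  exact congrArg (χ : G → ℂ) (hπ x).symm

variable {Q : Subgroup G} [Q.Normal] {M : Ideal Cfsg.AlgInt} {b : Set (Cfsg.IrrCharacter G)}

theorem regPart_not_dvd (g : G) : ¬ p ∣ orderOf (regPart p g) := by
  obtain ⟨y, hy, -, -, hr⟩ := H22.isPPart_pp p g
  rwa [regPart, show (H22.pp p g)⁻¹ * g = y by
    conv_lhs => arg 2; rw [← hy]
    rw [inv_mul_cancel_left]]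

/-- A multiple by an element of a central `p`-group has the same regular part in the quotient. -/
theorem regPart_eq_of_mk_eq (hQ : IsPGroup p Q)
    (hsup : Q ⊔ Subgroup.centralizer (Q : Set G) = ⊤) (hQc : Q ≤ Subgroup.center G) {g h : G}
    (hgh : (g : G ⧸ Q) = (h : G ⧸ Q)) : regPart p g = regPart p h := by
  refine H40.regular_lift_unique hQ hsup (regPart_not_dvd g) (regPart_not_dvd h) ?_
  obtain ⟨z, hz, rfl⟩ : ∃ z ∈ Q, h = g * z :=
    ⟨g⁻¹ * h, QuotientGroup.eq.1 hgh, (mul_inv_cancel_left g h).symm⟩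
  obtain ⟨y, hy, hc, ⟨j, hj⟩, hr⟩ := H22.isPPart_pp p g
  obtain ⟨i, hi⟩ := hQ ⟨z, hz⟩
  have hzi : z ^ p ^ i = 1 := congrArg Subtype.val hi
  have hzc : ∀ w : G, Commute z w := fun w =>
    (Subgroup.mem_center_iff.1 (hQc hz) w).symm
  have hpart : IsPPart p (g * z) (H22.pp p g * z) := by
    refine ⟨y, ?_, hc.mul_left (hzc y), ?_, hr⟩
    · rw [mul_assoc, (hzc y).eq, ← mul_assoc, hy]
    · have h1 : (H22.pp p g * z) ^ p ^ (j + i) = 1 := by
        rw [(hzc _).symm.mul_pow, pow_add, pow_mul, ← hj, pow_orderOf_eq_one, one_pow, one_mul,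
          mul_comm, pow_mul, hzi, one_pow]
      obtain ⟨n, -, hn⟩ := (Nat.dvd_prime_pow hp.out).1 (orderOf_dvd_of_pow_eq_one h1)
      exact ⟨n, hn⟩
  rw [H41.BrauerChar.regPart_eq hpart, regPart, QuotientGroup.eq]
  have : ((H22.pp p g)⁻¹ * g)⁻¹ * ((H22.pp p g * z)⁻¹ * (g * z)) = 1 := by
    rw [mul_inv_rev (H22.pp p g) z, show z⁻¹ * (H22.pp p g)⁻¹ * (g * z) =
      (H22.pp p g)⁻¹ * g by
      rw [((hzc (H22.pp p g)).inv_inv).eq, mul_assoc, ← mul_assoc z⁻¹ g z,
        ((hzc g).inv_left).eq, mul_assoc g z⁻¹ z, inv_mul_cancel, mul_one], inv_mul_cancel]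
  rw [this]
  exact Q.one_mem

open scoped Classical in
/-- The projection onto the regular parts of a block, at a regular part. -/
theorem mulVec_projKernel_regRes (hM : Cfsg.IsPModular p M) (hb : Cfsg.IsPBlock M b)
    (χ : Cfsg.IrrCharacter G) :
    Matrix.mulVec (H32.projKernel p b) (regRes p (χ : G → ℂ)) =
      if χ ∈ b then regRes p (χ : G → ℂ) else 0 := by
  have := hM.2.1
  have hW := H32.weakOrthogonal_of_isPBlock (C := G) hM hb
  have h1 : Matrix.mulVec (H32.projKernel p b) (regRes p (χ : G → ℂ)) =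
      Matrix.mulVec (H32.projKernel p b) (χ : G → ℂ) := by
    funext s
    refine Finset.sum_congr rfl fun t _ => ?_
    by_cases ht : p ∣ orderOf t
    · show H32.projKernel p b s t * _ = H32.projKernel p b s t * _
      rw [H32.projKernel_eq_zero hW s (fun h => h ht), zero_mul, zero_mul]
    · rw [H42.regRes_of_regular ht]
  rw [h1, ← H32.pRegularPart_blockPart, H42.pRegularPart_eq_regRes]
  funext s
  by_cases hs : p ∣ orderOf s
  · rw [H42.regRes_of_singular hs]
    split_ifs
    · rw [H42.regRes_of_singular hs]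
    · rfl
  rw [H42.regRes_of_regular hs, H32.blockPart_eq_sum]
  simp only [H26.classInner_irr, ite_mul, one_mul, zero_mul, Finset.sum_ite_eq, Finset.mem_filter,
    Finset.mem_univ, true_and]
  split_ifs
  · rw [H42.regRes_of_regular hs]
  · rfl

open scoped Classical in
/-- The regular parts of a block are integral combinations of those of the members below. -/
theorem exists_int_quot (hM : Cfsg.IsPModular p M) (hb : Cfsg.IsPBlock M b) (hQ : IsPGroup p Q)
    (hQc : Q ≤ Subgroup.center G) [Fintype (G ⧸ Q)] {χ : Cfsg.IrrCharacter G} (hχ : χ ∈ b) :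
    ∃ z : Cfsg.IrrCharacter (G ⧸ Q) → ℤ, regRes p (χ : G → ℂ) =
      ∑ φ ∈ Finset.univ.filter (· ∈ quotSet Q b),
        (z φ : ℂ) • regRes p (inflate Q φ : G → ℂ) := by
  have hsup : Q ⊔ Subgroup.centralizer (Q : Set G) = ⊤ := by
    refine top_le_iff.1 (le_trans (fun g _ => ?_) le_sup_right)
    exact Subgroup.mem_centralizer_iff.2 fun z hz => (Subgroup.mem_center_iff.1 (hQc hz) g).symm
  set F : G → ℂ := fun g => (χ : G → ℂ) (regPart p g) with hF
  have hFQ : ∀ g h : G, (g : G ⧸ Q) = h → F g = F h := fun g h hgh => by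
    simp only [hF, regPart_eq_of_mk_eq hQ hsup hQc hgh]
  let f : G ⧸ Q → ℂ := fun q => F (Quotient.out q)
  have hfF : ∀ g : G, f (g : G ⧸ Q) = F g := fun g => hFQ _ _ (QuotientGroup.out_eq' _)
  have hcl : Cfsg.IsClassFunction (G ⧸ Q) f := by
    intro q z
    obtain ⟨g, rfl⟩ := QuotientGroup.mk_surjective q
    obtain ⟨w, rfl⟩ := QuotientGroup.mk_surjective z
    rw [← QuotientGroup.mk_inv, ← QuotientGroup.mk_mul, ← QuotientGroup.mk_mul, hfF, hfF]
    simp only [hF, H41.BrauerChar.regPart_conj, H26.irr_conj]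
  have hint : ∀ φ : Cfsg.IrrCharacter (G ⧸ Q), ∃ n : ℤ, Cfsg.classInner f (φ : G ⧸ Q → ℂ) = n := by
    intro φ
    obtain ⟨n, hn⟩ := H42.exists_int_classInner (gen_regPart (p := p) χ) (inflate Q φ)
    refine ⟨n, Eq.trans ?_ hn⟩
    rw [Cfsg.classInner, Cfsg.classInner]
    have hfib : ∀ q : G ⧸ Q, ∑ g ∈ Finset.univ.filter (fun g : G => (g : G ⧸ Q) = q),
        F g * conj ((inflate Q φ : G → ℂ) g) =
        (Nat.card Q : ℂ) * (f q * conj ((φ : G ⧸ Q → ℂ) q)) := by
      intro q
      rw [Finset.sum_congr rfl fun g hg => show F g * conj ((inflate Q φ : G → ℂ) g) =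
        f q * conj ((φ : G ⧸ Q → ℂ) q) by
          rw [← hfF, H44.inflate_apply, (Finset.mem_filter.1 hg).2],
        Finset.sum_const, nsmul_eq_mul]
      congr 2
      obtain ⟨g, rfl⟩ := QuotientGroup.mk_surjective q
      rw [← Fintype.card_subtype, ← Nat.card_eq_fintype_card]
      exact Nat.card_congr
        ((Equiv.subtypeEquivRight fun x => by rw [eq_comm, QuotientGroup.eq]).trans
          ((Equiv.mulLeft g⁻¹).subtypeEquiv fun x => by simp))
    rw [← Finset.sum_fiberwise Finset.univ (fun g : G => (g : G ⧸ Q))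
      (fun g => F g * conj ((inflate Q φ : G → ℂ) g)), Finset.sum_congr rfl fun q _ => hfib q,
      ← Finset.mul_sum, ← mul_assoc, Subgroup.card_eq_card_quotient_mul_card_subgroup Q,
      Nat.cast_mul, mul_inv, mul_assoc ((Nat.card (G ⧸ Q) : ℂ)⁻¹) _ (Nat.card Q : ℂ),
      inv_mul_cancel₀ (Nat.cast_ne_zero.2 Nat.card_pos.ne'), mul_one]
  choose z hz using hint
  refine ⟨z, ?_⟩
  have hexp : regRes p (χ : G → ℂ) =
      ∑ φ : Cfsg.IrrCharacter (G ⧸ Q), (z φ : ℂ) • regRes p (inflate Q φ : G → ℂ) := by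
    funext g
    simp only [Finset.sum_apply, Pi.smul_apply, smul_eq_mul]
    by_cases hg : p ∣ orderOf g
    · simp [H42.regRes_of_singular hg]
    · have h := congrFun (H26.class_function_expansion f hcl) (g : G ⧸ Q)
      simp only [Finset.sum_apply, Pi.smul_apply, smul_eq_mul, hz, hfF] at h
      rw [H42.regRes_of_regular hg]
      simp only [H42.regRes_of_regular hg, H44.inflate_apply]
      rw [← h]
      simp only [hF, H41.BrauerChar.regPart_of_regular hg]
  have h2 := congrArg (Matrix.mulVec (H32.projKernel p b)) hexp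
  rw [mulVec_projKernel_regRes hM hb χ, if_pos hχ, Matrix.mulVec_sum] at h2
  rw [h2, Finset.sum_filter]
  refine Finset.sum_congr rfl fun φ _ => ?_
  rw [Matrix.mulVec_smul, mulVec_projKernel_regRes hM hb]
  by_cases h : inflate Q φ ∈ b
  · rw [if_pos h, if_pos (show φ ∈ quotSet Q b from h)]
  · rw [if_neg h, if_neg (show φ ∉ quotSet Q b from h), smul_zero]

end Cfsg.Agent.H31.RankTwo
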